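import Cfsg.Agent.Omega.KL.TwoM.Fr
import Cfsg.Agent.Omega.KL.TwoZ.Ex

/-!
# EX for both sides over `TwoM.Fr`: the exact group for THEOREM KL*

`O = O₂(D)`; `Mx O A` : `A` elementary abelian of maximal order in `O`.

* `Fr.no_H`, `Fr.no_N` : (NO), by helper863's flag (NO); `Fr.mx` : `A` is exact on `N_i`, `C_A(N_i) N_i` is maximal in `O` and
  contained in `Q_i`;
* `Fr.ex_U` : `B = C_A(U_i)` : `B ≤ O₂(C_G(V i) T)`, `|B : C_B(N_i)| = |N_i : C_{N_i}(B)|`;
* `TwoZ.Fail i` : `C_A(U_i) = C_A(N_i)` for all maximal `A ≤ Q_{i+1}`; `Fr.not_both` : not both sides fail;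
* `Out` : the output, with `[V i, B] = 1`; **`Fr.ex`** : there is an `Out`, or for both `i` : not `Fail i`, `V i ≰ N_i`,
  `J(O)` moves `V i`.
-/

set_option autoImplicit false
set_option linter.unusedSectionVars false

namespace Cfsg.Agent.Omega.KL.TwoM

open Subgroup Cfsg Cfsg.Agent.Omega.MinPar
open Cfsg.Agent.ZN (o2 zc)
open Cfsg.Agent.Omega.OM.KTwo (ne_add_one eq_add_one add_one_add_one le_normalizer_V le_V exists_mul_of_mem_sup)
open Cfsg.Agent.MinSimple.MinParabolic (IsMinPar)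
open Cfsg.Agent.Omega.NoFF.Basic (conj_conj mem_conj conj_le_iff comm_symm comm_mono Z_le_V V_le)
open Cfsg.Agent.Omega.NOThreeL.Pair (conj_eq_of_mem conj_le_normalizer)
open Cfsg.Agent.Omega.NoFF.ThmJFam (card_sup_inf card_conj conj_cent conj_inf)
open Cfsg.Agent.ZN.ChoiceSit (Syl exists_syl syl_conj o2_le_syl syl_not_dvd)
open Cfsg.Agent.MinSimple.VModule (mem_zc zc_le normalizer_le_normalizer_zc le_o2
  o2_isPGroup o2_le zc_le_centralizer le_centralizer_zc le_normalizer_o2)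
open Cfsg.Agent.Omega.TC (kgroup_mono)
open Cfsg.Agent.Omega.TC.LemZ (card_eq le_norm_of norm_cent norm_inf)
open Cfsg.Agent.Omega.KL.TwoS (Mx comm_of_sq sq_sup relIndex_le_of_sup sup_of_relIndex_le relIndex_pos relIndex_mono
  relIndex_anti relIndex_split)
open Cfsg.Agent.Omega.KL.TwoZ (CC QQ NH NN WW UU HH V_le_of norm_V norm_o2_of sq_conj sq_V Fail SS MM)
open scoped Pointwise

universe u

variable {G : Type u} [Group G]

namespace Fr

variable [Finite G] {T : Subgroup G} {V Z : Fin 2 → Subgroup G} (D : Fr T V Z)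

include D

/-- **(NO)** for `H` on `⟨Z (i+1) ^ H⟩` -/
theorem no_H (hML : ML.Final.MLK.{u, u}) {i : Fin 2} {H A : Subgroup G} (hK : IsKGroup (CC Z i)) (hT : T ≤ H)
    (hH : H ≤ CC Z i) (hA : A ≤ o2 (centralizer (zc T : Set G))) (hA2 : ∀ a ∈ A, a ^ 2 = 1) :
    (centralizer (NH Z i H : Set G)).relIndex A ≤ (centralizer (A : Set G)).relIndex (NH Z i H) := by
  have hS : Syl T H := ⟨hT, D.T_isPGroup, fun R hR hR2 hTR => (D.syl i).2.2 R (hR.trans hH) hR2 hTR⟩
  refine (FlagNO.flag_no_of hML D.T_isPGroup hT (syl_not_dvd hS) (D.T_le_C (i + 1)) (kgroup_mono hK hH) ?_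
    (X := centralizer (zc T : Set G)) (fun x hx => D.mem_D (hH hx.1) hx.2) hA ((hA.trans D.O_le_T).trans hT)
    ((hA.trans D.O_le_T).trans (D.T_le_C (i + 1))) hA2).1
  intro x hx
  exact D.N_sq i x (V_le_of (le_V _ _) (hH.trans (le_normalizer_V _ _)) hx)

theorem no_N (hML : ML.Final.MLK.{u, u}) {i : Fin 2} {A : Subgroup G} (hK : IsKGroup (CC Z i))
    (hA : A ≤ o2 (centralizer (zc T : Set G))) (hA2 : ∀ a ∈ A, a ^ 2 = 1) :
    (centralizer (NN Z i : Set G)).relIndex A ≤ (centralizer (A : Set G)).relIndex (NN Z i) :=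
  D.no_H hML hK (D.T_le_C i) le_rfl hA hA2

/-- `A` maximal in `O` : exact on `N_i`, `C_A(N_i) N_i` is maximal and `≤ Q_i` -/
theorem mx (hML : ML.Final.MLK.{u, u}) {i : Fin 2} {A : Subgroup G} (hK : IsKGroup (CC Z i))
    (hA : Mx (o2 (centralizer (zc T : Set G))) A) :
    (centralizer (NN Z i : Set G)).relIndex A = (centralizer (A : Set G)).relIndex (NN Z i) ∧
    Mx (o2 (centralizer (zc T : Set G))) (A ⊓ centralizer (NN Z i : Set G) ⊔ NN Z i) ∧
    A ⊓ centralizer (NN Z i : Set G) ⊔ NN Z i ≤ QQ Z i := by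
  have h1 := D.no_N hML hK hA.le hA.sq
  refine ⟨le_antisymm h1 (hA.thom (D.N_le_O i) (D.N_sq i)), hA.sup (D.N_le_O i) (D.N_sq i) h1, sup_le ?_ (D.N_le_Q i)⟩
  exact (inf_le_inf_right _ hA.le).trans (D.O_inf_le i)

/-- `B = C_A(U_i)` -/
theorem ex_U (hML : ML.Final.MLK.{u, u}) {i : Fin 2} {A : Subgroup G} (hK : IsKGroup (CC Z i))
    (hA : Mx (o2 (centralizer (zc T : Set G))) A) :
    A ⊓ centralizer (UU V Z i : Set G) ≤ o2 (HH T V i) ∧
    (centralizer (NN Z i : Set G)).relIndex (A ⊓ centralizer (UU V Z i : Set G)) =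
      (centralizer ((A ⊓ centralizer (UU V Z i : Set G) : Subgroup G) : Set G)).relIndex (NN Z i) ∧
    Mx (o2 (centralizer (zc T : Set G))) (A ⊓ centralizer (UU V Z i : Set G) ⊔ UU V Z i) := by
  set B : Subgroup G := A ⊓ centralizer (UU V Z i : Set G) with hB
  have hUN := D.U_le_N i
  have hCN : centralizer (NN Z i : Set G) ≤ centralizer (UU V Z i : Set G) := centralizer_le hUN
  have hUno := D.no_H hML hK (D.T_le_H i) (D.H_le_C i) hA.le hA.sq
  rw [D.NH_H] at hUno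
  refine ⟨?_, ?_, hA.sup (hUN.trans (D.N_le_O i)) (D.U_sq i) hUno⟩
  · have h1 := GenTool.o2_inf_le (L := HH T V i) (N := HH T V i ⊓ centralizer (UU V Z i : Set G))
      (R := centralizer (zc T : Set G)) inf_le_left
      (fun g hg x hx => ⟨(HH T V i).mul_mem ((HH T V i).mul_mem hg hx.1) ((HH T V i).inv_mem hg),
        (mem_normalizer_iff.1 (norm_cent (D.H_le_norm_U i) hg) x).1 hx.2⟩)
      (fun x hx => D.mem_D (D.H_le_C i hx.1)
        (centralizer_le (le_V (Z (i + 1)) (centralizer (V i : Set G))) hx.2))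
    refine le_trans ?_ h1
    exact le_inf (inf_le_left.trans hA.le) (le_inf ((inf_le_left.trans (hA.le.trans D.O_le_T)).trans (D.T_le_H i))
      inf_le_right)
  · -- counting
    have hA1 := (D.mx hML hK hA).1
    have s1 := relIndex_split (A := A) hCN
    rw [← hB] at s1
    have hCC : centralizer (A : Set G) ≤ centralizer (B : Set G) := centralizer_le inf_le_left
    have s2 := relIndex_split (A := NN Z i) hCC
    have hUB : UU V Z i ≤ NN Z i ⊓ centralizer (B : Set G) := le_inf hUN (comm_symm inf_le_right)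
    have h3 : (centralizer (UU V Z i : Set G)).relIndex A ≤
        (centralizer (A : Set G)).relIndex (NN Z i ⊓ centralizer (B : Set G)) := hUno.trans (relIndex_mono hUB)
    have h4 := D.no_N hML hK (A := B) (inf_le_left.trans hA.le) (fun b hb => hA.sq b hb.1)
    refine le_antisymm h4 ?_
    by_contra hc
    push Not at hc
    rw [hA1, s2] at s1
    have p1 := relIndex_pos (centralizer (UU V Z i : Set G)) A
    have h5 : (centralizer (NN Z i : Set G)).relIndex B * (centralizer (UU V Z i : Set G)).relIndex A <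
        (centralizer (A : Set G)).relIndex (NN Z i ⊓ centralizer (B : Set G)) * (centralizer (B : Set G)).relIndex (NN Z i) := by
      calc (centralizer (NN Z i : Set G)).relIndex B * (centralizer (UU V Z i : Set G)).relIndex A
          < (centralizer (B : Set G)).relIndex (NN Z i) * (centralizer (UU V Z i : Set G)).relIndex A :=
            Nat.mul_lt_mul_of_pos_right hc p1
        _ ≤ (centralizer (B : Set G)).relIndex (NN Z i) *
            (centralizer (A : Set G)).relIndex (NN Z i ⊓ centralizer (B : Set G)) := Nat.mul_le_mul_left _ h3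
        _ = _ := Nat.mul_comm _ _
    exact absurd s1.symm h5.ne

end Fr

namespace Fr

variable [Finite G] {T : Subgroup G} {V Z : Fin 2 → Subgroup G} (D : Fr T V Z)

include D

theorem fail_eq (hML : ML.Final.MLK.{u, u}) {i : Fin 2} (hK : IsKGroup (CC Z i)) (hF : Fail T V Z i)
    {A : Subgroup G} (hA : Mx (o2 (centralizer (zc T : Set G))) A) (hAQ : A ≤ QQ Z (i + 1)) :
    A ⊓ centralizer (NN Z i : Set G) ⊔ NN Z i = A ⊓ centralizer (UU V Z i : Set G) ⊔ UU V Z i := by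
  have h1 := (D.mx hML hK hA).2.1
  have h2 := (D.ex_U hML hK hA).2.2
  have h3 : A ⊓ centralizer (UU V Z i : Set G) ⊔ UU V Z i ≤ A ⊓ centralizer (NN Z i : Set G) ⊔ NN Z i :=
    sup_le_sup (le_inf inf_le_left (hF A hA hAQ)) (D.U_le_N i)
  exact (Subgroup.eq_of_le_of_card_ge h3 (h2.max _ h1.le h1.sq)).symm

/-- one step of the invariance of `SS i` -/
theorem SS_step (hML : ML.Final.MLK.{u, u}) {i : Fin 2} (hK : IsKGroup (CC Z i)) (hF : Fail T V Z i) {g : G}
    (hg : g ∈ CC Z (i + 1)) (hg2 : g ∈ CC Z i ∨ g ∈ normalizer (V i : Set G)) {X : Subgroup G} (hX : X ∈ SS T Z i) :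
    MulAut.conj g • X ∈ SS T Z i := by
  obtain ⟨A, hA, hAQ, rfl⟩ := hX
  have e1 : MulAut.conj g • QQ Z (i + 1) = QQ Z (i + 1) := conj_eq_of_mem (le_normalizer_o2 _ hg)
  have hAg : MulAut.conj g • A ≤ QQ Z (i + 1) := by rw [← e1]; exact conj_le_iff.2 hAQ
  have hMg := hA.conj (g := g) (hAg.trans (D.Q_le_O _))
  refine ⟨MulAut.conj g • A, hMg, hAg, ?_⟩
  rcases hg2 with h | h
  · have e2 : MulAut.conj g • NN Z i = NN Z i := conj_eq_of_mem (le_normalizer_V _ _ h)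
    rw [Subgroup.smul_sup, conj_inf, conj_cent, e2]
  · have e2 : MulAut.conj g • UU V Z i = UU V Z i := conj_eq_of_mem (D.norm_U i ⟨h, centralizer_le_normalizer _ hg⟩)
    rw [D.fail_eq hML hK hF hA hAQ, D.fail_eq hML hK hF hMg hAg, Subgroup.smul_sup, conj_inf, conj_cent, e2]

/-- **`SS i` is `C_{i+1}`-invariant** -/
theorem SS_inv (hML : ML.Final.MLK.{u, u}) {i : Fin 2} (hK : IsKGroup (CC Z i)) (hF : Fail T V Z i) {g : G}
    (hg : g ∈ CC Z (i + 1)) {X : Subgroup G} (hX : X ∈ SS T Z i) : MulAut.conj g • X ∈ SS T Z i := by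
  let K : Subgroup G :=
    { carrier := {g | ∀ X, X ∈ SS T Z i ↔ MulAut.conj g • X ∈ SS T Z i}
      one_mem' := fun X => by rw [map_one, one_smul]
      mul_mem' := by
        intro a b ha hb X
        rw [hb X, ha, conj_conj]
      inv_mem' := by
        intro a ha X
        have h := ha (MulAut.conj a⁻¹ • X)
        rw [conj_conj, mul_inv_cancel, map_one, one_smul] at h
        exact h.symm }
  have key : ∀ R : Subgroup G, R ≤ CC Z (i + 1) → (∀ r ∈ R, r ∈ CC Z i ∨ r ∈ normalizer (V i : Set G)) → R ≤ K := by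
    intro R hR hR2 r hr X
    refine ⟨D.SS_step hML hK hF (hR hr) (hR2 r hr), fun h => ?_⟩
    have h1 := D.SS_step hML hK hF (hR (inv_mem hr)) (hR2 _ (inv_mem hr)) h
    rwa [conj_conj, inv_mul_cancel, map_one, one_smul] at h1
  have h : CC Z (i + 1) ≤ K := by
    refine MinSimple.MinParabolic.le_of_forall (D.T_le_C _) ?_ fun R hR hRC => ?_
    · refine key _ inf_le_left fun r hr => Or.inr ?_
      have h1 := (D.nT (i + 1) hr).2
      rwa [add_one_add_one] at h1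
    · by_cases hm : R ≤ CC Z i
      · exact key R hRC fun r hr => Or.inl (hm hr)
      · exact key R hRC fun r hr => Or.inr (D.uni i (i + 1) (ne_add_one i) R hR hRC hm i hr)
  exact (h hg X).1 hX

theorem SS_mx (hML : ML.Final.MLK.{u, u}) {i : Fin 2} (hK : IsKGroup (CC Z i)) {X : Subgroup G} (hX : X ∈ SS T Z i) :
    Mx (o2 (centralizer (zc T : Set G))) X ∧ X ≤ QQ Z i ∧ NN Z i ≤ X := by
  obtain ⟨A, hA, -, rfl⟩ := hX
  obtain ⟨-, h1, h2⟩ := D.mx hML hK hA
  exact ⟨h1, h2, le_sup_right⟩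

/-- members of `SS i` lie in `Q_{i+1}` -/
theorem SS_le (hML : ML.Final.MLK.{u, u}) {i : Fin 2} (hK : IsKGroup (CC Z i)) (hF : Fail T V Z i)
    {X : Subgroup G} (hX : X ∈ SS T Z i) : X ≤ QQ Z (i + 1) := by
  have h1 : NoFF.Basic.V X (CC Z (i + 1)) ≤ o2 (centralizer (zc T : Set G)) :=
    V_le fun c hc => (D.SS_mx hML hK (D.SS_inv hML hK hF hc hX)).1.le
  have h2 : NoFF.Basic.V X (CC Z (i + 1)) ≤ QQ Z (i + 1) :=
    le_o2 ((h1.trans D.O_le_T).trans (D.T_le_C _)) ((o2_isPGroup _).to_le h1) (le_normalizer_V _ _)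
  exact (le_V _ _).trans h2

/-- `⟨N_i ^ C_{i+1}⟩ ≤ X` -/
theorem MM_le (hML : ML.Final.MLK.{u, u}) {i : Fin 2} (hK : IsKGroup (CC Z i)) (hF : Fail T V Z i)
    {X : Subgroup G} (hX : X ∈ SS T Z i) : MM Z i ≤ X := by
  refine V_le fun c hc => ?_
  have h1 := (D.SS_mx hML hK (D.SS_inv hML hK hF (inv_mem hc) hX)).2.2
  have h2 : MulAut.conj c • NN Z i ≤ MulAut.conj c • (MulAut.conj c⁻¹ • X) := conj_le_iff.2 h1
  rwa [conj_conj, mul_inv_cancel, map_one, one_smul] at h2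

theorem SS_nonempty (hML : ML.Final.MLK.{u, u}) (i : Fin 2) (hK : ∀ i, IsKGroup (CC Z i)) : ∃ X, X ∈ SS T Z i := by
  obtain ⟨A, hA⟩ := Mx.exists_mx (o2 (centralizer (zc T : Set G)))
  obtain ⟨-, h1, h2⟩ := D.mx hML (hK (i + 1)) hA
  exact ⟨_, _, h1, h2, rfl⟩

/-- `[N_i, N_{i+1}] = 1` -/
theorem fail_comm (hML : ML.Final.MLK.{u, u}) {i : Fin 2} (hK : ∀ i, IsKGroup (CC Z i)) (hF : Fail T V Z i) :
    NN Z i ≤ centralizer (NN Z (i + 1) : Set G) := by
  obtain ⟨X, hX⟩ := D.SS_nonempty hML i hK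
  exact ((D.SS_mx hML (hK i) hX).2.2.trans (D.SS_le hML (hK i) hF hX)).trans (D.Q_le_cent_N (i + 1))

/-- `A ≤ Q_i` maximal: `C_A(N_{i+1}) N_{i+1} ∈ SS i` -/
theorem mem_SS (hML : ML.Final.MLK.{u, u}) {i : Fin 2} (hK : ∀ i, IsKGroup (CC Z i)) (hF : Fail T V Z i)
    {A : Subgroup G} (hA : Mx (o2 (centralizer (zc T : Set G))) A) (hAQ : A ≤ QQ Z i) :
    A ⊓ centralizer (NN Z (i + 1) : Set G) ⊔ NN Z (i + 1) ∈ SS T Z i := by
  obtain ⟨-, h1, h2⟩ := D.mx hML (hK (i + 1)) hA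
  set A' : Subgroup G := A ⊓ centralizer (NN Z (i + 1) : Set G) ⊔ NN Z (i + 1) with hA'
  have h3 : A' ≤ centralizer (NN Z i : Set G) :=
    sup_le (inf_le_left.trans (hAQ.trans (D.Q_le_cent_N i))) (comm_symm (D.fail_comm hML hK hF))
  have h4 : NN Z i ≤ A' := h1.le_of_comm (D.N_le_O i) (D.N_sq i) (comm_symm h3)
  refine ⟨A', h1, h2, ?_⟩
  rw [inf_eq_left.2 h3, sup_eq_left.2 h4]

/-- (b): not both fail -/
theorem not_both (hML : ML.Final.MLK.{u, u}) {i : Fin 2} (hK : ∀ i, IsKGroup (CC Z i)) (hF : Fail T V Z i)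
    (hF' : Fail T V Z (i + 1)) : False := by
  -- `SS j = {X maximal in O : X ≤ Q_0 ∩ Q_1}`
  have key : ∀ {j : Fin 2}, Fail T V Z j → ∀ X : Subgroup G, X ∈ SS T Z j ↔
      Mx (o2 (centralizer (zc T : Set G))) X ∧ X ≤ QQ Z j ∧ X ≤ QQ Z (j + 1) := by
    intro j hj X
    constructor
    · intro h
      obtain ⟨h1, h2, -⟩ := D.SS_mx hML (hK j) h
      exact ⟨h1, h2, D.SS_le hML (hK j) hj h⟩
    · rintro ⟨h1, h2, h3⟩
      have h4 : X ≤ centralizer (NN Z j : Set G) := h2.trans (D.Q_le_cent_N j)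
      have h5 : NN Z j ≤ X := h1.le_of_comm (D.N_le_O j) (D.N_sq j) (comm_symm h4)
      refine ⟨X, h1, h3, ?_⟩
      rw [inf_eq_left.2 h4, sup_eq_left.2 h5]
  have heq : ∀ X : Subgroup G, X ∈ SS T Z (i + 1) ↔ X ∈ SS T Z i := by
    intro X
    rw [key hF', key hF, add_one_add_one]
    tauto
  set J : Subgroup G := ⨆ A : SS T Z i, (A : Subgroup G) with hJ
  have hJO : J ≤ o2 (centralizer (zc T : Set G)) := iSup_le fun A => (D.SS_mx hML (hK i) A.2).1.le
  have hinv : ∀ g : G, (∀ X, X ∈ SS T Z i → MulAut.conj g • X ∈ SS T Z i) → ∀ x ∈ J, g * x * g⁻¹ ∈ J := by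
    intro g hg x hx
    have h2 : J ≤ MulAut.conj g⁻¹ • J := by
      refine iSup_le fun A => ?_
      have h3 : MulAut.conj g • (A : Subgroup G) ≤ J := le_iSup (fun A : SS T Z i => (A : Subgroup G)) ⟨_, hg A A.2⟩
      have h4 : MulAut.conj g⁻¹ • (MulAut.conj g • (A : Subgroup G)) ≤ MulAut.conj g⁻¹ • J := conj_le_iff.2 h3
      rwa [conj_conj, inv_mul_cancel, map_one, one_smul] at h4
    have h5 := h2 hx
    rw [mem_conj, inv_inv] at h5
    exact h5
  have hJ1 : J = ⊥ := by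
    refine D.nonloc' (i := i) ((o2_isPGroup _).to_le hJO) (le_norm_of fun g hg => hinv g fun X hX => ?_)
      (le_norm_of fun g hg => hinv g fun X hX => D.SS_inv hML (hK i) hF hg hX)
    refine (heq _).1 (D.SS_inv hML (hK (i + 1)) hF' ?_ ((heq _).2 hX))
    rwa [add_one_add_one]
  obtain ⟨X, hX⟩ := D.SS_nonempty hML i hK
  have h2 : NN Z i ≤ J := (D.SS_mx hML (hK i) hX).2.2.trans (le_iSup (fun A : SS T Z i => (A : Subgroup G)) ⟨X, hX⟩)
  rw [hJ1] at h2
  exact D.ne (i + 1) (le_bot_iff.1 ((le_V _ _).trans h2))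

end Fr

/-- the output of EX: the input of THEOREM KL* on `X`, on the level of `C_i` -/
structure Out (T : Subgroup G) (V Z : Fin 2 → Subgroup G) (i : Fin 2) (X B : Subgroup G) : Prop where
  NX : NN Z i ≤ X
  VX : V i ≤ X
  CX : CC Z i ≤ normalizer (X : Set G)
  XQ : X ≤ QQ Z i
  sqX : ∀ x ∈ X, x ^ 2 = 1
  sqB : ∀ b ∈ B, b ^ 2 = 1
  BO : B ≤ o2 (centralizer (zc T : Set G))
  BH : B ≤ o2 (HH T V i)
  BV : B ≤ centralizer (V i : Set G)
  ker : B ⊓ centralizer (NN Z i : Set G) ≤ centralizer (X : Set G)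
  ex : (centralizer (B : Set G)).relIndex X ≤ (centralizer (NN Z i : Set G)).relIndex B
  mv : ¬ B ≤ centralizer (NN Z i : Set G)

namespace Fr

variable [Finite G] {T : Subgroup G} {V Z : Fin 2 → Subgroup G} (D : Fr T V Z)

include D

theorem X_facts (i : Fin 2) : (WW V Z i ⊔ NN Z i ≤ QQ Z i) ∧ (∀ x ∈ WW V Z i ⊔ NN Z i, x ^ 2 = 1) ∧
    CC Z i ≤ normalizer ((WW V Z i ⊔ NN Z i : Subgroup G) : Set G) ∧ V i ≤ WW V Z i ⊔ NN Z i := by
  have hc : WW V Z i ≤ centralizer (NN Z i : Set G) := (D.W_le_Q i).trans (D.Q_le_cent_N i)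
  refine ⟨sup_le (D.W_le_Q i) (D.N_le_Q i), sq_sup (D.W_sq i) (D.N_sq i) hc, ?_, (le_V _ _).trans le_sup_left⟩
  refine le_norm_of fun c hcc x hx => ?_
  obtain ⟨w, hw, n, hn, rfl⟩ := exists_mul_of_mem_sup ((comm_symm hc).trans (centralizer_le_normalizer _)) hx
  have e : c * (w * n) * c⁻¹ = (c * w * c⁻¹) * (c * n * c⁻¹) := by group
  rw [e]
  exact mul_mem (mem_sup_left ((mem_normalizer_iff.1 (le_normalizer_V (V i) (CC Z i) hcc) w).1 hw))
    (mem_sup_right ((mem_normalizer_iff.1 (le_normalizer_V (Z (i + 1)) (CC Z i) hcc) n).1 hn))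

/-- the common part of (c) and (e): `A` maximal, `C_A(N_i) N_i` centralises `X = W_i N_i` -/
theorem out_of (hML : ML.Final.MLK.{u, u}) {i : Fin 2} (hK : IsKGroup (CC Z i)) {A : Subgroup G}
    (hA : Mx (o2 (centralizer (zc T : Set G))) A)
    (hc : A ⊓ centralizer (NN Z i : Set G) ≤ centralizer ((WW V Z i ⊔ NN Z i : Subgroup G) : Set G))
    (hm : ¬ A ⊓ centralizer (UU V Z i : Set G) ≤ centralizer (NN Z i : Set G)) (hAV : A ≤ centralizer (V i : Set G)) :
    Out T V Z i (WW V Z i ⊔ NN Z i) (A ⊓ centralizer (UU V Z i : Set G)) := by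
  obtain ⟨h1, h2, h3, h4⟩ := D.X_facts i
  obtain ⟨h5, h6, -⟩ := D.ex_U hML hK hA
  have hXc : WW V Z i ⊔ NN Z i ≤ centralizer ((WW V Z i ⊔ NN Z i : Subgroup G) : Set G) := comm_of_sq h2
  have h7 : (centralizer (A : Set G)).relIndex (WW V Z i ⊔ NN Z i) ≤ (centralizer (A : Set G)).relIndex (NN Z i) := by
    refine (hA.thom (h1.trans (D.Q_le_O i)) h2).trans ?_
    rw [← (D.mx hML hK hA).1]
    have e1 : (A ⊓ centralizer (NN Z i : Set G)).relIndex A = (centralizer (NN Z i : Set G)).relIndex A :=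
      inf_relIndex_left _ _
    rw [← e1]
    exact relIndex_anti hc
  have h8 := sup_of_relIndex_le le_sup_right hXc h7
  have h9 : WW V Z i ⊔ NN Z i ≤ NN Z i ⊔ ((WW V Z i ⊔ NN Z i) ⊓
      centralizer ((A ⊓ centralizer (UU V Z i : Set G) : Subgroup G) : Set G)) :=
    h8.trans (sup_le_sup_left (inf_le_inf_left _ (centralizer_le inf_le_left)) _)
  refine ⟨le_sup_right, h4, h3, h1, h2, fun b hb => hA.sq b hb.1, inf_le_left.trans hA.le, h5, inf_le_left.trans hAV,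
    ?_, ?_, hm⟩
  · exact (inf_le_inf_right _ inf_le_left).trans hc
  · rw [h6]
    exact relIndex_le_of_sup le_sup_right hXc h9

/-- (c) -/
theorem out_c (hML : ML.Final.MLK.{u, u}) {i : Fin 2} (hK : ∀ i, IsKGroup (CC Z i)) (hF : Fail T V Z i)
    (hF' : ¬ Fail T V Z (i + 1)) : ∃ X B : Subgroup G, Out T V Z (i + 1) X B := by
  unfold Fail at hF'
  push Not at hF'
  obtain ⟨A, hA, hAQ, hm⟩ := hF'
  rw [add_one_add_one] at hAQ
  refine ⟨_, _, D.out_of hML (hK (i + 1)) hA ?_ hm ((hAQ.trans (D.Q_le_cent_N i)).trans (centralizer_le (D.V_le_N i)))⟩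
  have h1 := D.MM_le hML (hK i) hF (D.mem_SS hML hK hF hA hAQ)
  have h2 : WW V Z (i + 1) ⊔ NN Z (i + 1) ≤ A ⊓ centralizer (NN Z (i + 1) : Set G) ⊔ NN Z (i + 1) := by
    refine sup_le (le_trans ?_ h1) le_sup_right
    refine V_le fun c hc => ?_
    exact (conj_le_iff.2 (D.V_le_N i)).trans (Z_le_V hc)
  refine comm_symm (h2.trans ?_)
  refine sup_le (comm_mono hA.comm inf_le_left inf_le_left) (comm_symm inf_le_right)

/-- (e) -/
theorem out_e (hML : ML.Final.MLK.{u, u}) {i : Fin 2} (hK : IsKGroup (CC Z i)) (hF : ¬ Fail T V Z i)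
    (hJ : ∀ A : Subgroup G, Mx (o2 (centralizer (zc T : Set G))) A → A ≤ centralizer (V i : Set G)) :
    ∃ X B : Subgroup G, Out T V Z i X B := by
  unfold Fail at hF
  push Not at hF
  obtain ⟨A, hA, -, hm⟩ := hF
  refine ⟨_, _, D.out_of hML hK hA ?_ hm (hJ A hA)⟩
  obtain ⟨-, h1, h2⟩ := D.mx hML hK hA
  have h3 : WW V Z i ≤ centralizer ((A ⊓ centralizer (NN Z i : Set G) ⊔ NN Z i : Subgroup G) : Set G) := by
    refine V_le fun c hc => ?_
    have e1 : MulAut.conj c⁻¹ • QQ Z i = QQ Z i := conj_eq_of_mem (le_normalizer_o2 _ (inv_mem hc))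
    have h4 : MulAut.conj c⁻¹ • (A ⊓ centralizer (NN Z i : Set G) ⊔ NN Z i) ≤ QQ Z i := by
      rw [← e1]; exact conj_le_iff.2 h2
    have h5 := comm_symm (hJ _ (h1.conj (h4.trans (D.Q_le_O i))))
    have h6 : MulAut.conj c • V i ≤ MulAut.conj c • centralizer
        ((MulAut.conj c⁻¹ • (A ⊓ centralizer (NN Z i : Set G) ⊔ NN Z i) : Subgroup G) : Set G) := conj_le_iff.2 h5
    rwa [conj_cent, conj_conj, mul_inv_cancel, map_one, one_smul] at h6
  have h7 : A ⊓ centralizer (NN Z i : Set G) ≤ A ⊓ centralizer (NN Z i : Set G) ⊔ NN Z i := le_sup_left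
  refine comm_symm (sup_le (h3.trans (centralizer_le h7)) ?_)
  exact comm_symm inf_le_right

/-- (d) -/
theorem out_d (hML : ML.Final.MLK.{u, u}) {i : Fin 2} (hK : IsKGroup (CC Z i)) (hF : ¬ Fail T V Z i)
    (hV : V i ≤ NN Z i) : ∃ X B : Subgroup G, Out T V Z i X B := by
  unfold Fail at hF
  push Not at hF
  obtain ⟨A, hA, hAQ, hm⟩ := hF
  obtain ⟨h5, h6, -⟩ := D.ex_U hML hK hA
  have h7 : V i ≤ NN Z (i + 1) := by
    have := D.V_le_N (i + 1)
    rwa [add_one_add_one] at this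
  exact ⟨NN Z i, A ⊓ centralizer (UU V Z i : Set G), le_rfl, hV, le_normalizer_V _ _, D.N_le_Q i, D.N_sq i,
    fun b hb => hA.sq b hb.1, inf_le_left.trans hA.le, h5,
    (inf_le_left.trans (hAQ.trans (D.Q_le_cent_N _))).trans (centralizer_le h7), inf_le_right, h6.ge, hm⟩

/-- **EX** (helper23 #22505 (II)) -/
theorem ex (hML : ML.Final.MLK.{u, u}) (hK : ∀ i, IsKGroup (CC Z i)) :
    (∃ (i : Fin 2) (X B : Subgroup G), Out T V Z i X B) ∨ ∀ i, ¬ Fail T V Z i ∧ ¬ V i ≤ NN Z i ∧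
      ∃ A : Subgroup G, Mx (o2 (centralizer (zc T : Set G))) A ∧ ¬ A ≤ centralizer (V i : Set G) := by
  by_contra hc
  push Not at hc
  obtain ⟨h1, i, h2⟩ := hc
  have key : ∀ j, ¬ Fail T V Z j := by
    intro j hF
    by_cases hF' : Fail T V Z (j + 1)
    · exact D.not_both hML hK hF hF'
    · obtain ⟨X, B, h⟩ := D.out_c hML hK hF hF'
      exact h1 _ X B h
  by_cases hV : V i ≤ NN Z i
  · obtain ⟨X, B, h⟩ := D.out_d hML (hK i) (key i) hV
    exact h1 _ X B h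
  · obtain ⟨X, B, h⟩ := D.out_e hML (hK i) (key i) (h2 (key i) hV)
    exact h1 _ X B h

end Fr

end Cfsg.Agent.Omega.KL.TwoM
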