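import Cfsg.Agent.Omega.KL.FlagNO
import Cfsg.Agent.Omega.KL.Plug
import Cfsg.Agent.Omega.KL.TwoM.Ex
import Cfsg.Agent.Omega.KL.TwoZ.FrN

/-!
# (NO) for flags modulo an invariant subgroup

`T` a Sylow 2-subgroup of `C` (a K-group) which centralises `Z`, `E` normal in `C`, `⟨Z ^ C⟩ ≤ M ≤ C`, `M / E` elementary
abelian, `c ∈ C`, `[Z, c] ≤ E` implies `[Z, c] = 1`.  `B ≤ O₂(C_C(Z))` elementary abelian.

* **`flag_mod`** : `|B : C_B(⟨Z ^ C⟩)| ≤ |M : C_M(B mod E)|` (`flag_no` in `C / E`);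
* **`Fr.no_E`** : over `TwoM.Fr`.
-/

set_option autoImplicit false
set_option linter.unusedSectionVars false

namespace Cfsg.Agent.Omega.KL.TwoM

open Subgroup Cfsg Cfsg.Agent.Omega.MinPar
open Cfsg.Agent.ZN (o2 zc)
open Cfsg.Agent.Omega.OM.KTwo (ne_add_one eq_add_one add_one_add_one le_normalizer_V le_V exists_mul_of_mem_sup)
open Cfsg.Agent.Omega.NoFF.Basic (conj_conj mem_conj conj_le_iff comm_symm comm_mono Z_le_V V_le)
open Cfsg.Agent.ZN.ChoiceSit (Syl exists_syl syl_conj o2_le_syl syl_not_dvd)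
open Cfsg.Agent.MinSimple.VModule (mem_zc zc_le le_o2 o2_isPGroup o2_le le_normalizer_o2)
open Cfsg.Agent.Omega.KL.TwoS (relIndex_anti relIndex_mono)
open Cfsg.Agent.Omega.KL.TwoZ (CC QQ NH NN WW UU HH V_le_of norm_V norm_o2_of sq_conj sq_V XX)
open Cfsg.Agent.Omega.KL.FlagNO (V_le_elem conj_mem_V flag_no o2_inf_sub)
open scoped Pointwise

universe u

variable {G : Type u} [Group G] [Finite G]

/-- **(NO) for flags modulo `E`** -/
theorem flag_mod (ml : ML.Final.MLK.{u, u}) {C T Z E B M : Subgroup G} (two : IsPGroup 2 T)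
    (syl : ¬ 2 ∣ T.relIndex C) (TZ : T ≤ centralizer (Z : Set G)) (KC : IsKGroup C)
    (CE : C ≤ normalizer (E : Set G)) (ZM : NoFF.Basic.V Z C ≤ M) (MC : M ≤ C) (sq : ∀ x ∈ M, x * x ∈ E)
    (sep : ∀ c ∈ C, ∀ m ∈ Z, c * m * c⁻¹ * m⁻¹ ∈ E → c * m * c⁻¹ = m)
    (hB : B ≤ o2 (C ⊓ centralizer (Z : Set G))) (el : ∀ b ∈ B, b ^ 2 = 1) {CW : Subgroup G}
    (hCW : ∀ x ∈ CW, ∀ b ∈ B, b * x * b⁻¹ * x⁻¹ ∈ E) :
    (centralizer (NoFF.Basic.V Z C : Set G)).relIndex B ≤ CW.relIndex M := by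
  have hZM : Z ≤ M := (le_V Z C).trans ZM
  have hZC : Z ≤ C := hZM.trans MC
  have hBC : B ≤ C := hB.trans ((o2_le _).trans inf_le_left)
  have hEn : (E.subgroupOf C).Normal := normal_subgroupOf_of_le_normalizer CE
  let π : C →* C ⧸ E.subgroupOf C := QuotientGroup.mk' (E.subgroupOf C)
  have hπ : Function.Surjective π := QuotientGroup.mk'_surjective _
  have hker : ∀ x : C, π x = 1 ↔ (x : G) ∈ E := by
    intro x
    rw [← MonoidHom.mem_ker, QuotientGroup.ker_mk', mem_subgroupOf]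
  have hcm : ∀ x y : C, π x * π y = π y * π x ↔ (x : G) * y * (x : G)⁻¹ * (y : G)⁻¹ ∈ E := by
    intro x y
    rw [← mul_inv_eq_iff_eq_mul, ← mul_inv_eq_one, ← map_mul, ← map_inv, ← map_mul, ← map_inv, ← map_mul, hker]
    push_cast
    rfl
  set Zb : Subgroup (C ⧸ E.subgroupOf C) := (Z.subgroupOf C).map π with hZb
  set Bb : Subgroup (C ⧸ E.subgroupOf C) := (B.subgroupOf C).map π with hBb
  -- `C(Z̄)`
  have hcZ : (⊤ : Subgroup (C ⧸ E.subgroupOf C)) ⊓ centralizer (Zb : Set (C ⧸ E.subgroupOf C)) =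
      ((C ⊓ centralizer (Z : Set G)).subgroupOf C).map π := by
    rw [top_inf_eq]
    ext q
    constructor
    · intro hq
      obtain ⟨c, rfl⟩ := hπ q
      refine mem_map_of_mem π (mem_subgroupOf.2 (mem_inf.2 ⟨c.2, mem_centralizer_iff.2 fun z hz => ?_⟩))
      have h1 : π ⟨z, hZC hz⟩ * π c = π c * π ⟨z, hZC hz⟩ :=
        mem_centralizer_iff.1 hq _ (mem_map_of_mem π (mem_subgroupOf.2 hz))
      have h2 := (hcm c ⟨z, hZC hz⟩).1 h1.symm
      exact (eq_mul_of_mul_inv_eq (sep c c.2 z hz h2)).symm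
    · rintro ⟨c, hc, rfl⟩
      rw [mem_centralizer_iff]
      rintro _ ⟨z, hz, rfl⟩
      have h1 : (z : G) * c = c * z := mem_centralizer_iff.1 (mem_subgroupOf.1 hc).2 z (mem_subgroupOf.1 hz)
      rw [← map_mul, ← map_mul]
      exact congrArg π (Subtype.ext h1)
  have hVM : NoFF.Basic.V Zb (⊤ : Subgroup (C ⧸ E.subgroupOf C)) ≤ (M.subgroupOf C).map π := by
    refine V_le_elem fun g _ z hz => ?_
    obtain ⟨c, rfl⟩ := hπ g
    obtain ⟨z, hz, rfl⟩ := hz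
    rw [← map_mul, ← map_inv, ← map_mul]
    exact mem_map_of_mem π (mem_subgroupOf.2 (ZM (conj_mem_V c.2 (mem_subgroupOf.1 hz))))
  have key := flag_no (H := (⊤ : Subgroup (C ⧸ E.subgroupOf C))) (T := (T.subgroupOf C).map π) (Z := Zb) (B := Bb) ml
    ((two.comap_of_injective C.subtype C.subtype_injective).map π) le_top
    (by
      rw [relIndex_top_right]
      exact fun h2 => syl (h2.trans (index_map_dvd _ hπ)))
    (by
      rintro _ ⟨t, ht, rfl⟩
      rw [mem_centralizer_iff]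
      rintro _ ⟨z, hz, rfl⟩
      have h1 : (z : G) * t = t * z := mem_centralizer_iff.1 (TZ (mem_subgroupOf.1 ht)) z (mem_subgroupOf.1 hz)
      rw [← map_mul, ← map_mul]
      exact congrArg π (Subtype.ext h1))
    (ML.Final.sec_KG.sub _ (ML.Final.sec_KG.quo C KC (E.subgroupOf C)) ⊤)
    (by
      intro x hx
      obtain ⟨y, hy, rfl⟩ := hVM hx
      rw [← map_pow, hker, pow_two]
      exact sq y (mem_subgroupOf.1 hy))
    (by
      rw [hcZ]
      refine le_trans ?_ (KL.GenTool.o2_map_le π _)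
      exact map_mono (Plug.sub_o2 (S := C ⊓ centralizer (Z : Set G)) (fun c => mem_subgroupOf) hB))
    (by
      rintro _ ⟨b, hb, rfl⟩
      rw [← map_pow]
      have h1 : b ^ 2 = 1 := Subtype.ext (el b (mem_subgroupOf.1 hb))
      rw [h1, map_one])
  -- the left side
  have hL : (centralizer (NoFF.Basic.V Z C : Set G)).relIndex B ≤
      (centralizer (NoFF.Basic.V Zb (⊤ : Subgroup (C ⧸ E.subgroupOf C)) : Set (C ⧸ E.subgroupOf C))).relIndex Bb := by
    rw [hBb, ← relIndex_comap, ← relIndex_subgroupOf hBC]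
    refine relIndex_anti fun c hc => mem_subgroupOf.2 ?_
    have h1 : NoFF.Basic.V Z C ≤ centralizer ({(c : G)} : Set G) := by
      refine V_le_elem fun l hl z hz => ?_
      rw [mem_centralizer_singleton_iff]
      have h0 : l * z * l⁻¹ ∈ C := C.mul_mem (C.mul_mem hl (hZC hz)) (C.inv_mem hl)
      have h2 : π ⟨l * z * l⁻¹, h0⟩ * π c = π c * π ⟨l * z * l⁻¹, h0⟩ := by
        refine mem_centralizer_iff.1 (mem_comap.1 hc) _ ?_
        have h3 := conj_mem_V (Z := Zb) (h := π ⟨l, hl⟩) (mem_top (π ⟨l, hl⟩) : _ ∈ (⊤ : Subgroup (C ⧸ E.subgroupOf C)))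
          (mem_map_of_mem π (mem_subgroupOf.2 (show ((⟨z, hZC hz⟩ : C) : G) ∈ Z from hz)))
        rw [← map_mul, ← map_inv, ← map_mul] at h3
        exact h3
      have h3 := (hcm c _).1 h2.symm
      have h4 : (l⁻¹ * c * l) * z * (l⁻¹ * c * l)⁻¹ * z⁻¹ ∈ E := by
        have h5 := (mem_normalizer_iff.1 (CE (C.inv_mem hl)) _).1 h3
        have e : l⁻¹ * ((c : G) * (l * z * l⁻¹) * (c : G)⁻¹ * (l * z * l⁻¹)⁻¹) * l⁻¹⁻¹ =
            (l⁻¹ * c * l) * z * (l⁻¹ * c * l)⁻¹ * z⁻¹ := by group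
        rw [← e]
        exact h5
      have h5 := sep _ (C.mul_mem (C.mul_mem (C.inv_mem hl) c.2) hl) z hz h4
      have h6 : (c : G) * (l * z * l⁻¹) * (c : G)⁻¹ = l * z * l⁻¹ := by
        calc (c : G) * (l * z * l⁻¹) * (c : G)⁻¹ = l * ((l⁻¹ * c * l) * z * (l⁻¹ * c * l)⁻¹) * l⁻¹ := by group
          _ = l * z * l⁻¹ := by rw [h5]
      exact (eq_mul_of_mul_inv_eq h6).symm
    rw [mem_centralizer_iff]
    exact fun x hx => mem_centralizer_singleton_iff.1 (h1 hx)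
  -- the right side
  have hR : (centralizer (Bb : Set (C ⧸ E.subgroupOf C))).relIndex
      (NoFF.Basic.V Zb (⊤ : Subgroup (C ⧸ E.subgroupOf C))) ≤ CW.relIndex M := by
    refine (relIndex_mono hVM).trans ?_
    rw [← relIndex_comap, ← relIndex_subgroupOf MC]
    refine relIndex_anti fun x hx => mem_comap.2 ?_
    rw [mem_centralizer_iff]
    rintro _ ⟨b, hb, rfl⟩
    exact (hcm b x).2 (hCW x (mem_subgroupOf.1 hx) b (mem_subgroupOf.1 hb))
  exact hL.trans (key.trans hR)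

namespace Fr

variable {T : Subgroup G} {V Z : Fin 2 → Subgroup G} (D : Fr T V Z)

include D

/-- **(NO)** on `N_i E / E` -/
theorem no_E (hML : ML.Final.MLK.{u, u}) {i : Fin 2} (hK : IsKGroup (CC Z i)) {E : Subgroup G}
    (CE : CC Z i ≤ normalizer (E : Set G)) (EX : E ≤ XX V Z i)
    (sep : ∀ c ∈ CC Z i, ∀ m ∈ Z (i + 1), c * m * c⁻¹ * m⁻¹ ∈ E → c * m * c⁻¹ = m) {A : Subgroup G}
    (hA : A ≤ o2 (centralizer (zc T : Set G))) (hA2 : ∀ a ∈ A, a ^ 2 = 1) {CW : Subgroup G}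
    (hCW : ∀ x ∈ CW, ∀ a ∈ A, a * x * a⁻¹ * x⁻¹ ∈ E) :
    (centralizer (NN Z i : Set G)).relIndex A ≤ CW.relIndex (NN Z i ⊔ E) := by
  have hX := D.X_facts i
  have hXC : WW V Z i ⊔ NN Z i ≤ CC Z i := hX.1.trans ((D.Q_le_T i).trans (D.T_le_C i))
  have hEX : E ≤ WW V Z i ⊔ NN Z i := EX
  have hAC : A ≤ CC Z i := (hA.trans D.O_le_T).trans (D.T_le_C i)
  have hAC' : A ≤ CC Z (i + 1) := (hA.trans D.O_le_T).trans (D.T_le_C (i + 1))
  have hsub : CC Z i ⊓ centralizer (Z (i + 1) : Set G) ≤ centralizer (zc T : Set G) := fun c hc => D.mem_D hc.1 hc.2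
  refine flag_mod hML D.T_isPGroup (syl_not_dvd (D.syl i)) (D.T_le_C (i + 1)) hK CE le_sup_left
    (sup_le ((le_sup_right : NN Z i ≤ WW V Z i ⊔ NN Z i).trans hXC) (hEX.trans hXC)) (fun x hx => ?_) sep
    ((le_inf hA (le_inf hAC hAC')).trans (o2_inf_sub hsub)) hA2 hCW
  have h1 := hX.2.1 x ((sup_le le_sup_right hEX : NN Z i ⊔ E ≤ WW V Z i ⊔ NN Z i) hx)
  rw [← pow_two, h1]
  exact one_mem _

end Fr

end Cfsg.Agent.Omega.KL.TwoM
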