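import Cfsg.Agent.Omega.KL.TwoZ.Fr
import Cfsg.Agent.Omega.KL.FlagNO

/-!
# Two centres `Z 0`, `Z 1` of any order with arbitrary `V 0`, `V 1`: no condition on the minimal parabolics but `uni`

`TwoZ.Fr` without `mvs` and `odd`, with `V 0 ∩ V 1 = 1` (helper692 #24722 (2), helper241 #24672, helper863 #24788): torus and
diagonal parabolics (K2's), field automorphisms and any number of blocks are allowed.

`T` is a Sylow 2-subgroup of `C_i = C_G(Z i)` (`i = 0, 1`), `Ω₁Z(T) = Z 0 Z 1`, `D = C_G(Ω₁Z(T)) = C_0 ∩ C_1`,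
`O = O₂(D)`, `⟨C_0, C_1⟩` nonlocal; `V i ≥ Z i` elementary abelian, normalised by `T` and by `N_{C_j}(T)`, `V 0 ∩ V 1 = 1`,
`V i ≤ O₂(C_i)`, the conjugates of `V i` under `C_i` commute, `V (i+1) ≤ N_i = ⟨Z (i+1) ^ C_i⟩`; some `T`-minimal
`R ≤ C_i` moves `Z (i+1)`; every `T`-minimal `R ≤ C_j` (`j ≠ i`) which moves `Z i` normalises `V 0` and `V 1`.

* `Fr` : the frame; `Fr.dis'` : `V i ∩ Z (i+1) = 1`; `Fr.cV` : `C_{V i}(T) = Z i`.
-/

set_option autoImplicit false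
set_option linter.unusedSectionVars false

namespace Cfsg.Agent.Omega.KL.TwoM

open Subgroup Cfsg Cfsg.Agent.Omega.MinPar
open Cfsg.Agent.ZN (o2 zc)
open Cfsg.Agent.Omega.OM.KTwo (ne_add_one eq_add_one add_one_add_one le_normalizer_V le_V exists_mul_of_mem_sup)
open Cfsg.Agent.MinSimple.MinParabolic (IsMinPar)
open Cfsg.Agent.Omega.NoFF.Basic (conj_conj mem_conj conj_le_iff comm_symm comm_mono Z_le_V V_le)
open Cfsg.Agent.Omega.NOThreeL.Pair (conj_eq_of_mem conj_le_normalizer)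
open Cfsg.Agent.Omega.NoFF.ThmJFam (card_sup_inf card_conj)
open Cfsg.Agent.ZN.ChoiceSit (Syl exists_syl syl_conj o2_le_syl)
open Cfsg.Agent.MinSimple.VModule (mem_zc zc_le normalizer_le_normalizer_zc le_o2
  o2_isPGroup o2_le zc_le_centralizer le_centralizer_zc le_normalizer_o2)
open Cfsg.Agent.Omega.TC.LemZ (card_eq le_norm_of norm_cent norm_inf)
open Cfsg.Agent.Omega.KL.TwoS (Mx comm_of_sq sq_sup relIndex_le_of_sup sup_of_relIndex_le)
open Cfsg.Agent.Omega.KL.TwoZ (CC QQ NH NN WW UU HH V_le_of norm_V norm_o2_of sq_conj sq_V)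
open scoped Pointwise

universe u

variable {G : Type u} [Group G]

/-- **the frame** -/
structure Fr [Finite G] (T : Subgroup G) (V Z : Fin 2 → Subgroup G) : Prop where
  char2 : ∀ i, centralizer (Z i : Set G) ⊓ centralizer (o2 (centralizer (Z i : Set G)) : Set G) ≤
    o2 (centralizer (Z i : Set G))
  sqV : ∀ i, ∀ x ∈ V i, x ^ 2 = 1
  ZV : ∀ i, Z i ≤ V i
  ne : ∀ i, Z i ≠ ⊥
  zT : zc T = Z 0 ⊔ Z 1
  syl : ∀ i, Syl T (centralizer (Z i : Set G))
  nT : ∀ i, centralizer (Z i : Set G) ⊓ normalizer (T : Set G) ≤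
    normalizer (Z (i + 1) : Set G) ⊓ normalizer (V i : Set G) ⊓ normalizer (V (i + 1) : Set G)
  nV : ∀ i, T ≤ normalizer (V i : Set G)
  VQ : ∀ i, V i ≤ o2 (centralizer (Z i : Set G))
  VC : ∀ i, ∀ c ∈ centralizer (Z i : Set G), MulAut.conj c • V i ≤ centralizer (V i : Set G)
  VN : ∀ i, V (i + 1) ≤ NoFF.Basic.V (Z (i + 1)) (centralizer (Z i : Set G))
  par : ∀ i, ∃ R : Subgroup G, IsMinPar T R ∧ R ≤ centralizer (Z i : Set G) ∧ ¬ R ≤ centralizer (Z (i + 1) : Set G)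
  uni : ∀ i j, i ≠ j → ∀ R : Subgroup G, IsMinPar T R → R ≤ centralizer (Z j : Set G) →
    ¬ R ≤ centralizer (Z i : Set G) → ∀ k, R ≤ normalizer (V k : Set G)
  dis : V 0 ⊓ V 1 = ⊥
  nonloc : NonLoc (centralizer (Z 0 : Set G)) (centralizer (Z 1 : Set G))

namespace Fr

variable [Finite G] {T : Subgroup G} {V Z : Fin 2 → Subgroup G} (D : Fr T V Z)

include D

/-! ### Easy facts -/

theorem T_isPGroup : IsPGroup 2 T := (D.syl 0).2.1

theorem T_le_C (i : Fin 2) : T ≤ CC Z i := (D.syl i).1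

theorem Z_sq (i : Fin 2) : ∀ z ∈ Z i, z ^ 2 = 1 := fun z hz => D.sqV i z (D.ZV i hz)

theorem Z_le_zc (i : Fin 2) : Z i ≤ zc T := by
  rw [D.zT]
  rcases Fin.exists_fin_two.1 ⟨i, rfl⟩ with h | h
  · rw [h]; exact le_sup_left
  · rw [h]; exact le_sup_right

theorem Q_le_T (i : Fin 2) : QQ Z i ≤ T := o2_le_syl (D.syl i)

theorem Z_le_T (i : Fin 2) : Z i ≤ T := (D.Z_le_zc i).trans (zc_le _)

theorem comm_Z (i : Fin 2) : T ≤ centralizer (Z i : Set G) := D.T_le_C i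

theorem Z_cent_T (i : Fin 2) : Z i ≤ centralizer (T : Set G) := comm_symm (D.T_le_C i)

theorem Z_le_Q (i j : Fin 2) : Z j ≤ QQ Z i := by
  refine le_trans (le_inf ((D.Z_le_T j).trans (D.T_le_C i)) ?_) (D.char2 i)
  exact (D.Z_cent_T j).trans (centralizer_le (D.Q_le_T i))

theorem cent_zc_le (i : Fin 2) : centralizer (zc T : Set G) ≤ CC Z i := centralizer_le (D.Z_le_zc i)

theorem CC_inf : CC Z 0 ⊓ CC Z 1 ≤ centralizer (zc T : Set G) := by
  rw [D.zT]
  rintro c ⟨h0, h1⟩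
  have h2 : Z 0 ⊔ Z 1 ≤ centralizer ({c} : Set G) := by
    refine sup_le (fun x hx => ?_) (fun x hx => ?_)
    · exact mem_centralizer_singleton_iff.2 (mem_centralizer_iff.1 h0 x hx)
    · exact mem_centralizer_singleton_iff.2 (mem_centralizer_iff.1 h1 x hx)
  rw [mem_centralizer_iff]
  exact fun x hx => mem_centralizer_singleton_iff.1 (h2 hx)

theorem le_D {i : Fin 2} {H : Subgroup G} (h : H ≤ CC Z i) (h' : H ≤ CC Z (i + 1)) : H ≤ centralizer (zc T : Set G) := by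
  refine le_trans ?_ D.CC_inf
  rcases Fin.exists_fin_two.1 ⟨i, rfl⟩ with e | e
  · subst e; exact le_inf h h'
  · subst e; exact le_inf h' h

theorem mem_D {i : Fin 2} {c : G} (h : c ∈ CC Z i) (h' : c ∈ CC Z (i + 1)) : c ∈ centralizer (zc T : Set G) := by
  apply D.CC_inf
  rcases Fin.exists_fin_two.1 ⟨i, rfl⟩ with e | e
  · subst e; exact ⟨h, h'⟩
  · subst e; exact ⟨h', h⟩

theorem T_le_D : T ≤ centralizer (zc T : Set G) := le_centralizer_zc T

theorem syl_D : Syl T (centralizer (zc T : Set G)) :=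
  ⟨D.T_le_D, D.T_isPGroup, fun R hR hR2 hTR => (D.syl 0).2.2 R (hR.trans (D.cent_zc_le 0)) hR2 hTR⟩

theorem O_le_T : o2 (centralizer (zc T : Set G)) ≤ T := o2_le_syl D.syl_D

theorem Q_le_O (i : Fin 2) : QQ Z i ≤ o2 (centralizer (zc T : Set G)) :=
  le_o2 ((D.Q_le_T i).trans D.T_le_D) (o2_isPGroup _) ((D.cent_zc_le i).trans (le_normalizer_o2 _))

theorem nonloc' {i : Fin 2} {W : Subgroup G} (hW : IsPGroup 2 W) (h : CC Z i ≤ normalizer (W : Set G))
    (h' : CC Z (i + 1) ≤ normalizer (W : Set G)) : W = ⊥ := by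
  rcases Fin.exists_fin_two.1 ⟨i, rfl⟩ with e | e
  · subst e; exact D.nonloc W hW h h'
  · subst e; exact D.nonloc W hW h' h

/-! ### `N_i` -/

theorem N_le (i : Fin 2) {X : Subgroup G} (hX : CC Z i ≤ normalizer (X : Set G)) (h : Z (i + 1) ≤ X) : NN Z i ≤ X :=
  V_le_of h hX

theorem N_le_Q (i : Fin 2) : NN Z i ≤ QQ Z i := V_le_of (D.Z_le_Q i (i + 1)) (le_normalizer_o2 _)

theorem N_le_cent_Q (i : Fin 2) : NN Z i ≤ centralizer (QQ Z i : Set G) :=
  V_le_of ((D.Z_cent_T (i + 1)).trans (centralizer_le (D.Q_le_T i))) (norm_cent (le_normalizer_o2 _))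

theorem Q_le_cent_N (i : Fin 2) : QQ Z i ≤ centralizer (NN Z i : Set G) := comm_symm (D.N_le_cent_Q i)

theorem N_comm (i : Fin 2) : NN Z i ≤ centralizer (NN Z i : Set G) := (D.N_le_Q i).trans (D.Q_le_cent_N i)

theorem N_le_O (i : Fin 2) : NN Z i ≤ o2 (centralizer (zc T : Set G)) := (D.N_le_Q i).trans (D.Q_le_O i)

theorem N_le_C (i j : Fin 2) : NN Z i ≤ CC Z j := ((D.N_le_Q i).trans (D.Q_le_T i)).trans (D.T_le_C j)

theorem N_sq (i : Fin 2) : ∀ x ∈ NN Z i, x ^ 2 = 1 := sq_V (D.Z_sq (i + 1)) (D.N_comm i)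

/-- a normal subgroup of `C_i` which centralises `Z (i+1)` centralises `N_i` -/
theorem cent_N_of_le {i : Fin 2} {X : Subgroup G} (hn : CC Z i ≤ normalizer (X : Set G)) (hX : X ≤ CC Z (i + 1)) :
    X ≤ centralizer (NN Z i : Set G) :=
  comm_symm (V_le_of (comm_symm hX) (norm_cent hn))

theorem cent_N_le (i : Fin 2) : centralizer (NN Z i : Set G) ≤ CC Z (i + 1) := centralizer_le (le_V _ _)

/-- `C_O(N_i) = Q_i` -/
theorem O_inf_le (i : Fin 2) : o2 (centralizer (zc T : Set G)) ⊓ centralizer (NN Z i : Set G) ≤ QQ Z i := by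
  have h1 := GenTool.o2_inf_le (L := CC Z i) (N := CC Z i ⊓ centralizer (NN Z i : Set G))
    (R := centralizer (zc T : Set G)) inf_le_left
    (fun g hg x hx => ⟨(CC Z i).mul_mem ((CC Z i).mul_mem hg hx.1) ((CC Z i).inv_mem hg),
      (mem_normalizer_iff.1 (norm_cent (le_normalizer_V (Z (i + 1)) (CC Z i)) hg) x).1 hx.2⟩)
    (fun x hx => D.mem_D hx.1 (D.cent_N_le i hx.2))
  refine le_trans ?_ h1
  exact le_inf inf_le_left (le_inf ((inf_le_left.trans D.O_le_T).trans (D.T_le_C i)) inf_le_right)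

/-- `V i ∩ V (i+1) = 1` -/
theorem disV (i : Fin 2) : ∀ z ∈ V i, z ∈ V (i + 1) → z = 1 := by
  intro z hz hz2
  have h1 : z ∈ V 0 ⊓ V 1 := by
    rcases Fin.exists_fin_two.1 ⟨i, rfl⟩ with e | e
    · subst e; exact ⟨hz, hz2⟩
    · subst e; exact ⟨hz2, hz⟩
  rw [D.dis] at h1
  exact mem_bot.1 h1

/-- `V i ∩ Z (i+1) = 1` -/
theorem dis' (i : Fin 2) : ∀ z ∈ V i, z ∈ Z (i + 1) → z = 1 := fun z hz hz2 => D.disV i z hz (D.ZV _ hz2)

/-- `C_{V i}(T) = Z i` -/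
theorem cV (i : Fin 2) : ∀ w ∈ V i, w ∈ centralizer (T : Set G) → w ∈ Z i := by
  intro w hw hwT
  have h1 : w ∈ zc T :=
    mem_zc.2 ⟨(D.Q_le_T i) (D.VQ i hw), fun t ht => mem_centralizer_iff.1 hwT t ht, D.sqV i w hw⟩
  rw [D.zT] at h1
  have hc : Z 1 ≤ normalizer (Z 0 : Set G) :=
    ((D.Z_le_T 1).trans (D.T_le_C 0)).trans (centralizer_le_normalizer _)
  obtain ⟨a, ha, b, hb, rfl⟩ := exists_mul_of_mem_sup hc h1
  rcases Fin.exists_fin_two.1 ⟨i, rfl⟩ with e | e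
  · subst e
    have h2 : b ∈ V 0 := by
      have := mul_mem (inv_mem (D.ZV 0 ha)) hw
      rwa [inv_mul_cancel_left] at this
    rw [D.dis' 0 b h2 hb, mul_one]
    exact ha
  · subst e
    have h2 : a ∈ V 1 := by
      have := mul_mem hw (inv_mem (D.ZV 1 hb))
      rwa [mul_inv_cancel_right] at this
    rw [D.dis' 1 a h2 ha, one_mul]
    exact hb

theorem exists_move (i : Fin 2) : ¬ CC Z i ≤ CC Z (i + 1) := by
  intro h1
  have h2 := D.nonloc' (i := i) (W := QQ Z (i + 1)) (o2_isPGroup _) (h1.trans (le_normalizer_o2 _))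
    (le_normalizer_o2 _)
  have h3 := D.Z_le_Q (i + 1) i
  rw [h2, le_bot_iff] at h3
  exact D.ne i h3

/-- `V (i+1) ≤ N_i` -/
theorem V_le_N (i : Fin 2) : V (i + 1) ≤ NN Z i := D.VN i

/-! ### `W_i`, `U_i` -/

theorem cent_V_le (i : Fin 2) : centralizer (V i : Set G) ≤ CC Z i := centralizer_le (D.ZV i)

theorem U_le_N (i : Fin 2) : UU V Z i ≤ NN Z i :=
  V_le_of (le_V _ _) ((D.cent_V_le i).trans (le_normalizer_V _ _))

theorem U_sq (i : Fin 2) : ∀ x ∈ UU V Z i, x ^ 2 = 1 := fun x hx => D.N_sq i x (D.U_le_N i hx)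

theorem norm_U (i : Fin 2) : normalizer (V i : Set G) ⊓ normalizer (Z (i + 1) : Set G) ≤
    normalizer (UU V Z i : Set G) :=
  norm_V inf_le_right (inf_le_left.trans (norm_cent (A := normalizer (V i : Set G)) le_rfl))

theorem H_le_C (i : Fin 2) : HH T V i ≤ CC Z i := sup_le (D.cent_V_le i) (D.T_le_C i)

theorem T_le_H (i : Fin 2) : T ≤ HH T V i := le_sup_right

theorem H_le_norm_U (i : Fin 2) : HH T V i ≤ normalizer (UU V Z i : Set G) :=
  sup_le (le_normalizer_V _ _)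
    ((le_inf (D.nV i) ((D.T_le_C _).trans (centralizer_le_normalizer _))).trans (D.norm_U i))

theorem NH_H (i : Fin 2) : NH Z i (HH T V i) = UU V Z i := by
  apply le_antisymm
  · exact V_le_of (le_V _ _) (D.H_le_norm_U i)
  · exact V_le_of (le_V _ _) (le_sup_left.trans (le_normalizer_V _ _))

theorem W_le_Q (i : Fin 2) : WW V Z i ≤ QQ Z i := V_le_of (D.VQ i) (le_normalizer_o2 _)

theorem W_comm (i : Fin 2) : WW V Z i ≤ centralizer (WW V Z i : Set G) := by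
  refine V_le fun c hc => comm_symm (V_le fun d hd => ?_)
  have h1 := D.VC i (c⁻¹ * d) (mul_mem (inv_mem hc) hd)
  have h2 : MulAut.conj c • (MulAut.conj (c⁻¹ * d) • V i) ≤ MulAut.conj c • centralizer (V i : Set G) :=
    conj_le_iff.2 h1
  rw [conj_conj, mul_inv_cancel_left, NoFF.ThmJFam.conj_cent] at h2
  exact h2

theorem W_sq (i : Fin 2) : ∀ x ∈ WW V Z i, x ^ 2 = 1 := sq_V (D.sqV i) (D.W_comm i)

end Fr

end Cfsg.Agent.Omega.KL.TwoM
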